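import Cfsg.Agent.H237.AltCP
import Cfsg.Agent.H238.Base

/-!
# Alternating groups are not of local characteristic `p`, `p` odd, `p ^ 4` dividing the order (helper247)

Piece (X) of S3046.
-/

set_option autoImplicit false

namespace Cfsg.Agent.H247.LP

open Subgroup Cfsg Equiv
open scoped Nat
open Cfsg.Agent.H238 (Loc)

universe u

theorem lt_of_pow_four_dvd {p n : ℕ} [hp : Fact p.Prime] (hp2 : p ≠ 2) (h : p ^ 4 ∣ n !) : 2 * p < n := by
  by_contra hn
  push Not at hn
  have h1 : 4 ≤ padicValNat p (n !) := (padicValNat_dvd_iff_le (Nat.factorial_ne_zero n)).1 h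
  have h2 := sub_one_mul_padicValNat_factorial (p := p) n
  have h3 : (p - 1) * 4 ≤ n := by
    calc (p - 1) * 4 ≤ (p - 1) * padicValNat p (n !) := Nat.mul_le_mul_left _ h1
      _ = n - (p.digits n).sum := h2
      _ ≤ n := Nat.sub_le _ _
  have h4 := hp.out.two_le
  omega

/-- a `p`-cycle -/
theorem exists_cycle {p n : ℕ} [hp : Fact p.Prime] (hp2 : p ≠ 2) (hn : p ≤ n) :
    ∃ g : ↥(alternatingGroup (Fin n)), orderOf g = p ∧
      Fintype.card {ω // (g : Perm (Fin n)) ω = ω} + p = n := by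
  obtain ⟨g, hg⟩ := (Equiv.Perm.exists_with_cycleType_iff (α := Fin n) (m := {p})).2
    ⟨by simpa using hn, by simpa using hp.out.two_le⟩
  have ho : orderOf g = p := by
    rw [← Equiv.Perm.lcm_cycleType, hg]
    simp
  have hs : Perm.sign g = 1 := by
    have h1 : Perm.sign g ^ p = 1 := by rw [← map_pow, ← ho, pow_orderOf_eq_one, map_one]
    obtain ⟨j, hj⟩ := hp.out.odd_of_ne_two hp2
    rw [hj, pow_succ, pow_mul, Int.units_sq, one_pow, one_mul] at h1
    exact h1
  refine ⟨⟨g, Perm.mem_alternatingGroup.2 hs⟩, ?_, ?_⟩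
  · rw [← ho]
    exact (Subgroup.orderOf_mk g _)
  · have h1 : g.support.card = p := by
      rw [← Equiv.Perm.sum_cycleType, hg]
      simp
    have h2 : Fintype.card {ω // g ω = ω} = g.supportᶜ.card := by
      rw [Fintype.card_subtype]
      congr 1
      ext ω
      simp
    change Fintype.card {ω // g ω = ω} + p = n
    rw [h2, Finset.card_compl, Fintype.card_fin, h1]
    omega

/-- **`A_n`.** -/
theorem not_loc_alt {K : Type u} [Group K] {p : ℕ} [hp : Fact p.Prime] (hp2 : p ≠ 2) {n : ℕ}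
    (e : K ≃* ↥(alternatingGroup (Fin n))) (h4 : p ^ 4 ∣ Nat.card K) : ¬ Loc p K := by
  intro hl
  have h1 : p ^ 4 ∣ n ! := by
    refine h4.trans ?_
    rw [Nat.card_congr e.toEquiv]
    have h2 := Subgroup.card_subgroup_dvd_card (alternatingGroup (Fin n))
    rwa [Nat.card_eq_fintype_card (α := Perm (Fin n)), Fintype.card_perm, Fintype.card_fin] at h2
  have h2 := lt_of_pow_four_dvd hp2 h1
  obtain ⟨g, hg, hc⟩ := exists_cycle (p := p) (n := n) hp2 (by omega)
  have h3 := H237.AltCP.cp_cent ((hl.congr e) g hg)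
  have h5 := hp.out.two_le
  rcases h3 with h | ⟨h, h'⟩ | ⟨h, h'⟩ <;> omega

end Cfsg.Agent.H247.LP
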